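import Groth.Prelude.Def_EtBaseX
import Groth.Prelude.Def_EtBase
import Mathlib.RingTheory.Etale.StandardEtale
import Mathlib.Algebra.Category.Ring.FilteredColimits
import Mathlib.CategoryTheory.Limits.Preserves.Filtered
import Mathlib.AlgebraicGeometry.Morphisms.Etale

/-!
# The etale local ring of a scheme at a geometric point is strictly henselian
-/

set_option autoImplicit false

universe u

open CategoryTheory CategoryTheory.Limits AlgebraicGeometry Opposite IsLocalRing Polynomial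

set_option backward.isDefEq.respectTransparency false

namespace Groth.Agent.EtLocRing

variable {X : Scheme.{u}} {Ω : Type u} [Field Ω] [IsSepClosed Ω] {ξ : Spec (CommRingCat.of Ω) ⟶ X}

/-- etale neighbourhoods of a geometric point -/
abbrev Nbhd (ξ : Spec (CommRingCat.of Ω) ⟶ X) := (Scheme.pointSmallEtale ξ).fiber.Elements

/-- the point of a neighbourhood -/
noncomputable abbrev pt (N : Nbhd ξ) : Spec (CommRingCat.of Ω) ⟶ N.1.left := N.2.left

theorem pt_w (N : Nbhd ξ) : pt N ≫ N.1.hom = ξ := Over.w N.2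

theorem pt_map {N M : Nbhd ξ} (f : N ⟶ M) : pt N ≫ f.1.left = pt M :=
  congrArg (fun z => z.left) f.2

/-- evaluation of functions on a neighbourhood at the point -/
noncomputable def ev (N : Nbhd ξ) : Γ(N.1.left, ⊤) →+* Ω :=
  ((pt N).appTop ≫ (Scheme.ΓSpecIso (CommRingCat.of Ω)).hom).hom

theorem ev_map {N M : Nbhd ξ} (f : N ⟶ M) (s : Γ(M.1.left, ⊤)) :
    ev N (f.1.left.appTop s) = ev M s := by
  show ((Scheme.ΓSpecIso (CommRingCat.of Ω)).hom) ((pt N).appTop (f.1.left.appTop s)) = _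
  rw [← ConcreteCategory.comp_apply (f.1.left.appTop), ← Scheme.Hom.comp_appTop, pt_map f]
  rfl

/-- germs at the point -/
noncomputable def gm (N : Nbhd ξ) : Γ(N.1.left, ⊤) →+* EtBase.etaleLocalRing ξ :=
  ((Scheme.pointSmallEtale ξ).toPresheafFiber N.1 N.2 (EtBase.OO X)).hom

theorem gm_map {N M : Nbhd ξ} (f : N ⟶ M) (s : Γ(M.1.left, ⊤)) :
    gm N (f.1.left.appTop s) = gm M s := by
  exact ConcreteCategory.congr_hom (colimit.w
    ((CategoryOfElements.π (Scheme.pointSmallEtale ξ).fiber).op ⋙ EtBase.OO X) f.op) s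

/-- evaluation of germs at the point -/
noncomputable def evS (ξ : Spec (CommRingCat.of Ω) ⟶ X) : EtBase.etaleLocalRing ξ →+* Ω :=
  (colimit.desc ((CategoryOfElements.π (Scheme.pointSmallEtale ξ).fiber).op ⋙ EtBase.OO X)
    { pt := CommRingCat.of Ω
      ι :=
        { app := fun N => CommRingCat.ofHom (ev N.unop)
          naturality := fun N M f => by
            ext s
            exact ev_map f.unop s } }).hom

theorem evS_gm (N : Nbhd ξ) (s : Γ(N.1.left, ⊤)) : evS ξ (gm N s) = ev N s :=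
  ConcreteCategory.congr_hom (colimit.ι_desc
    (F := (CategoryOfElements.π (Scheme.pointSmallEtale ξ).fiber).op ⋙ EtBase.OO X)
    { pt := CommRingCat.of Ω
      ι :=
        { app := fun N => CommRingCat.ofHom (ev N.unop)
          naturality := fun N M f => by
            ext s
            exact ev_map f.unop s } } (op N)) s

/-- a neighbourhood from an etale scheme over a neighbourhood with a lift of the point -/
theorem exists_refine (N : Nbhd ξ) {V : Scheme.{u}} (g : V ⟶ N.1.left) [Etale g]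
    (l : Spec (CommRingCat.of Ω) ⟶ V) (hl : l ≫ g = pt N) :
    ∃ (N' : Nbhd ξ) (f : N' ⟶ N) (e : N'.1.left = V),
      f.1.left = eqToHom e ≫ g ∧ pt N' = l ≫ eqToHom e.symm := by
  have : Etale N.1.hom := N.1.prop
  refine ⟨⟨MorphismProperty.Over.mk ⊤ (g ≫ N.1.hom) inferInstance, Over.homMk l (by
    show l ≫ g ≫ N.1.hom = ξ
    rw [reassoc_of% hl]; exact pt_w N)⟩,
    CategoryOfElements.homMk _ _ (MorphismProperty.Over.homMk g rfl trivial) ?_, rfl, ?_, ?_⟩
  · exact Over.OverMorphism.ext hl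
  · exact (Category.id_comp g).symm
  · exact (Category.comp_id l).symm

/-- restriction to an open, with control on the image -/
theorem exists_restrict_range (N : Nbhd ξ) (W : N.1.left.Opens)
    (hW : pt N (closedPoint Ω) ∈ W) :
    ∃ (N' : Nbhd ξ) (f : N' ⟶ N), Set.range f.1.left ⊆ W := by
  have hr : Set.range (pt N) ⊆ Set.range W.ι := by
    rintro _ ⟨t, rfl⟩
    rw [Scheme.Opens.range_ι]
    rw [Subsingleton.elim t (closedPoint Ω)]
    exact hW
  obtain ⟨N', f, e, hf, -⟩ := exists_refine N W.ι (IsOpenImmersion.lift W.ι (pt N) hr)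
    (IsOpenImmersion.lift_fac _ _ _)
  refine ⟨N', f, ?_⟩
  rintro _ ⟨x, rfl⟩
  rw [hf, Scheme.Hom.comp_apply]
  exact (Scheme.Opens.range_ι W).le ⟨_, rfl⟩

theorem mem_basicOpen_of_ev_ne_zero (N : Nbhd ξ) (s : Γ(N.1.left, ⊤)) (h : ev N s ≠ 0) :
    pt N (closedPoint Ω) ∈ N.1.left.basicOpen s := by
  have hu : IsUnit ((pt N).appTop s) := by
    have : IsUnit (ev N s) := isUnit_iff_ne_zero.2 h
    have h' := this.map (Scheme.ΓSpecIso (CommRingCat.of Ω)).inv.hom
    have e : (Scheme.ΓSpecIso (CommRingCat.of Ω)).inv (ev N s) = (pt N).appTop s :=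
      Iso.hom_inv_id_apply (Scheme.ΓSpecIso (CommRingCat.of Ω)) _
    rwa [e] at h'
  show closedPoint Ω ∈ pt N ⁻¹ᵁ N.1.left.basicOpen s
  rw [Scheme.preimage_basicOpen_top, Scheme.mem_basicOpen_top]
  exact hu.map _

theorem exists_gm (t : EtBase.etaleLocalRing ξ) :
    ∃ (N : Nbhd ξ) (s : Γ(N.1.left, ⊤)), gm N s = t := by
  have := Functor.Final.preservesColimitsOfShape_of_final
    (FinallySmall.fromFilteredFinalModel.{u} (Nbhd ξ)ᵒᵖ) (forget CommRingCat.{u})
  obtain ⟨N, s, hs⟩ := Types.jointly_surjective_of_isColimit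
    (isColimitOfPreserves (forget CommRingCat.{u}) (colimit.isColimit
      ((CategoryOfElements.π (Scheme.pointSmallEtale ξ).fiber).op ⋙ EtBase.OO X))) t
  exact ⟨N.unop, s, hs⟩

theorem isUnit_iff_evS (t : EtBase.etaleLocalRing ξ) : IsUnit t ↔ evS ξ t ≠ 0 := by
  refine ⟨fun h => (h.map (evS ξ)).ne_zero, fun h => ?_⟩
  obtain ⟨N, s, rfl⟩ := exists_gm t
  rw [evS_gm] at h
  obtain ⟨N', f, hf⟩ := exists_restrict_range N _ (mem_basicOpen_of_ev_ne_zero N s h)
  rw [← gm_map f]
  refine IsUnit.map _ (RingedSpace.isUnit_of_isUnit_germ N'.1.left.toRingedSpace ⊤ _ fun x _ => ?_)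
  apply (Scheme.mem_basicOpen_top _ (f.1.left.appTop s) x).1
  rw [← Scheme.preimage_basicOpen_top]
  exact hf ⟨x, rfl⟩

theorem isLocalRing_etaleLocalRing : IsLocalRing (EtBase.etaleLocalRing ξ) := by
  have : Nontrivial (EtBase.etaleLocalRing ξ) := (evS ξ).domain_nontrivial
  refine .of_nonunits_add fun a b ha hb => ?_
  simp only [mem_nonunits_iff, isUnit_iff_evS, not_not] at ha hb ⊢
  rw [map_add, ha, hb, add_zero]

theorem mem_maximalIdeal_iff [IsLocalRing (EtBase.etaleLocalRing ξ)] (t : EtBase.etaleLocalRing ξ) :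
    t ∈ maximalIdeal (EtBase.etaleLocalRing ξ) ↔ evS ξ t = 0 := by
  rw [mem_maximalIdeal, mem_nonunits_iff, isUnit_iff_evS, not_not]

theorem exists_affine (N : Nbhd ξ) : ∃ (N' : Nbhd ξ) (_ : N' ⟶ N), IsAffine N'.1.left := by
  obtain ⟨R, j, _, hj, _⟩ := Scheme.exists_affine_mem_range_and_range_subset
    (x := pt N (closedPoint Ω)) (U := (⊤ : N.1.left.Opens)) trivial
  have hr : Set.range (pt N) ⊆ Set.range j := by
    rintro _ ⟨t, rfl⟩
    rwa [Subsingleton.elim t (closedPoint Ω)]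
  obtain ⟨N', f, e, -, -⟩ := exists_refine N j (IsOpenImmersion.lift j (pt N) hr)
    (IsOpenImmersion.lift_fac _ _ _)
  exact ⟨N', f, e ▸ inferInstance⟩

theorem exists_common (s : Finset (EtBase.etaleLocalRing ξ)) :
    ∃ N : Nbhd ξ, IsAffine N.1.left ∧ ∀ t ∈ s, t ∈ Set.range (gm N) := by
  classical
  suffices ∃ N : Nbhd ξ, ∀ t ∈ s, t ∈ Set.range (gm N) by
    obtain ⟨N, hN⟩ := this
    obtain ⟨N', f, hN'⟩ := exists_affine N
    refine ⟨N', hN', fun t ht => ?_⟩
    obtain ⟨x, rfl⟩ := hN t ht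
    exact ⟨_, gm_map f x⟩
  induction s using Finset.induction with
  | empty =>
    obtain ⟨N⟩ : Nonempty (Nbhd ξ) := IsCofiltered.nonempty
    exact ⟨N, by simp⟩
  | insert t s _ ih =>
    obtain ⟨N, hN⟩ := ih
    obtain ⟨M, x, rfl⟩ := exists_gm t
    obtain ⟨L, a, b, -⟩ := IsCofilteredOrEmpty.cone_objs M N
    refine ⟨L, fun y hy => ?_⟩
    rcases Finset.mem_insert.1 hy with rfl | hy
    · exact ⟨_, gm_map a x⟩
    · obtain ⟨z, rfl⟩ := hN y hy
      exact ⟨_, gm_map b z⟩

/-- simple roots in the field of the point lift to the etale local ring -/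
theorem exists_root (f : (EtBase.etaleLocalRing ξ)[X]) (hf : f.Monic) (α : Ω)
    (h0 : (f.map (evS ξ)).eval α = 0) (h1 : ((f.map (evS ξ)).derivative).eval α ≠ 0) :
    ∃ t : EtBase.etaleLocalRing ξ, f.IsRoot t ∧ evS ξ t = α := by
  classical
  obtain ⟨N, hN, hc⟩ := exists_common f.coeffs
  have hl : f ∈ Polynomial.lifts (gm N) := by
    rw [Polynomial.lifts_iff_coeff_lifts]
    intro n
    by_cases hn : f.coeff n = 0
    · exact ⟨0, by rw [hn, map_zero]⟩
    · exact hc _ (Polynomial.coeff_mem_coeffs hn)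
  obtain ⟨f₀, hf₀, -, hf₀m⟩ := Polynomial.lifts_and_natDegree_eq_and_monic hl hf
  let R : CommRingCat.{u} := Γ(N.1.left, ⊤)
  let P : StandardEtalePair R := ⟨f₀, hf₀m, derivative f₀, 1, 0, 1, by simp⟩
  let ρ : R →+* Ω := ev N
  let : Algebra R Ω := ρ.toAlgebra
  have hρ : (evS ξ).comp (gm N) = ρ := RingHom.ext fun r => evS_gm _ r
  have hα : P.HasMap α := by
    rw [← hf₀, Polynomial.map_map, hρ, Polynomial.eval_map] at h0
    rw [← hf₀, Polynomial.map_map, hρ, Polynomial.derivative_map, Polynomial.eval_map] at h1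
    exact ⟨h0, isUnit_iff_ne_zero.2 h1⟩
  let l : CommRingCat.of P.Ring ⟶ CommRingCat.of Ω := CommRingCat.ofHom (P.lift α hα).toRingHom
  let a : R ⟶ CommRingCat.of P.Ring := CommRingCat.ofHom (algebraMap R P.Ring)
  let g : Spec (CommRingCat.of P.Ring) ⟶ N.1.left := Spec.map a ≫ N.1.left.isoSpec.inv
  have hg : Etale g := by
    have h : Etale (Spec.map a) :=
      (HasRingHomProperty.Spec_iff (P := @Etale)).2 (RingHom.etale_algebraMap.2 inferInstance)
    infer_instance
  have hal : a ≫ l = (pt N).appTop ≫ (Scheme.ΓSpecIso (CommRingCat.of Ω)).hom := by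
    ext r
    exact (P.lift α hα).commutes r
  have hnu : Spec.map l ≫ g = pt N := by
    show Spec.map l ≫ Spec.map a ≫ N.1.left.isoSpec.inv = pt N
    rw [← Spec.map_comp_assoc, hal, Spec.map_comp, Category.assoc]
    rw [← Category.assoc, Iso.comp_inv_eq, ← Scheme.isoSpec_Spec_hom, Scheme.isoSpec_hom_naturality]
  obtain ⟨N', φ, e, hφ, hpt⟩ := exists_refine N g (Spec.map l) hnu
  let ψ : P.Ring →+* EtBase.etaleLocalRing ξ :=
    (gm N').comp ((eqToHom e).appTop.hom.comp (Scheme.ΓSpecIso (CommRingCat.of P.Ring)).inv.hom)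
  have hgtop : g.appTop = a ≫ (Scheme.ΓSpecIso (CommRingCat.of P.Ring)).inv := by
    show (Spec.map a ≫ N.1.left.isoSpec.inv).appTop = _
    have e : N.1.left.isoSpec.inv.appTop = (Scheme.ΓSpecIso Γ(N.1.left, ⊤)).inv := by
      rw [← cancel_mono N.1.left.isoSpec.hom.appTop, ← Scheme.Hom.comp_appTop, Iso.hom_inv_id,
        show N.1.left.isoSpec.hom.appTop = (Scheme.ΓSpecIso Γ(N.1.left, ⊤)).hom from
          Scheme.toSpecΓ_appTop _, Iso.inv_hom_id]
      rfl
    rw [Scheme.Hom.comp_appTop, e, Scheme.ΓSpecIso_inv_naturality]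
  have hψ : ψ.comp (algebraMap R P.Ring) = gm N := by
    refine RingHom.ext fun r => ?_
    show gm N' ((eqToHom e).appTop ((a ≫ (Scheme.ΓSpecIso (CommRingCat.of P.Ring)).inv) r)) = _
    rw [← hgtop, ← gm_map φ r, hφ, Scheme.Hom.comp_appTop]
    rfl
  refine ⟨ψ P.X, ?_, ?_⟩
  · show f.eval (ψ P.X) = 0
    rw [← hf₀, Polynomial.eval_map, ← hψ, ← Polynomial.hom_eval₂]
    exact (congrArg ψ P.hasMap_X.1).trans (map_zero ψ)
  · show evS ξ (gm N' _) = α
    rw [evS_gm]
    show (((eqToHom e).appTop ≫ (pt N').appTop ≫ (Scheme.ΓSpecIso (CommRingCat.of Ω)).hom))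
      ((Scheme.ΓSpecIso (CommRingCat.of P.Ring)).inv P.X) = α
    rw [← Scheme.Hom.comp_appTop_assoc, hpt, Category.assoc, eqToHom_trans, eqToHom_refl,
      Category.comp_id]
    show ((Scheme.ΓSpecIso (CommRingCat.of P.Ring)).inv ≫ (Spec.map l).appTop ≫
      (Scheme.ΓSpecIso (CommRingCat.of Ω)).hom) P.X = α
    rw [Scheme.ΓSpecIso_naturality, Iso.inv_hom_id_assoc]
    exact P.lift_X α hα

theorem isStrictlyHenselian_etaleLocalRing :
    EtCoh.IsStrictlyHenselianLocalRing (EtBase.etaleLocalRing ξ) := by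
  have hloc := isLocalRing_etaleLocalRing (ξ := ξ)
  have hh : HenselianLocalRing (EtBase.etaleLocalRing ξ) := ⟨fun f hf a₀ h0 h1 => by
    obtain ⟨t, ht, hta⟩ := exists_root f hf (evS ξ a₀)
      (by rw [Polynomial.eval_map, Polynomial.eval₂_hom, ← mem_maximalIdeal_iff]; exact h0)
      (by rw [Polynomial.derivative_map, Polynomial.eval_map, Polynomial.eval₂_hom,
            ← isUnit_iff_evS]; exact h1)
    exact ⟨t, ht, by rw [mem_maximalIdeal_iff, map_sub, hta, sub_self]⟩⟩
  refine ⟨hh, ?_⟩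
  let ε : ResidueField (EtBase.etaleLocalRing ξ) →+* Ω :=
    Ideal.Quotient.lift (maximalIdeal (EtBase.etaleLocalRing ξ)) (evS ξ)
      fun t ht => (mem_maximalIdeal_iff t).1 ht
  have hε : ε.comp (residue (EtBase.etaleLocalRing ξ)) = evS ξ := RingHom.ext fun t => rfl
  refine IsSepClosed.of_exists_root _ fun q hq hirr hsep => ?_
  have hl : q ∈ Polynomial.lifts (residue (EtBase.etaleLocalRing ξ)) := by
    rw [Polynomial.lifts_iff_coeff_lifts]
    exact fun n => residue_surjective _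
  obtain ⟨f, hf, -, hfm⟩ := Polynomial.lifts_and_natDegree_eq_and_monic hl hq
  have hdeg : (q.map ε).degree ≠ 0 := by
    rw [Polynomial.degree_map]
    exact Polynomial.degree_ne_of_natDegree_ne hirr.natDegree_pos.ne'
  obtain ⟨α, hα⟩ := IsSepClosed.exists_root (q.map ε) hdeg hsep.map
  have hd : (q.map ε).derivative.eval α ≠ 0 :=
    (hsep.map (f := ε)).eval₂_derivative_ne_zero (RingHom.id Ω) (by simpa using hα)
  rw [← hf, Polynomial.map_map, hε] at hd
  have hα' : (f.map (evS ξ)).eval α = 0 := by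
    rw [← hε, ← Polynomial.map_map, hf]; exact hα
  obtain ⟨t, ht, -⟩ := exists_root f hfm α hα' hd
  refine ⟨residue _ t, ?_⟩
  rw [← hf, Polynomial.eval_map, Polynomial.eval₂_hom, ht, map_zero]

end Groth.Agent.EtLocRing
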